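import Mathlib
import Cfsg.Prelude.Def_Transfer
set_option linter.all false

/-!
# Elementary abelian 2-groups of linear maps: eigenbases and weights (helper100)

* `exists_basis` : commuting involutory operators of a finite-dimensional space (`2 ≠ 0`) have a common eigenbasis;
* `card_le` : a group acting faithfully by operators which are diagonal with entries `± 1` in a basis `b` has order at most
  `2 ^ k`, `k` the number of weights;
* `two_mul_card_image_le` and `two_mul_card_image_le_succ` : counting fibres.
-/

set_option autoImplicit false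

namespace Cfsg.Agent.H100.Diag

open Module

variable {K : Type*} [Field K] {V : Type*} [AddCommGroup V] [Module K V]

theorem span_eq_top (two : (2 : K) ≠ 0) {κ : Type*} (f : κ → V →ₗ[K] V) (hc : ∀ i j v, f i (f j v) = f j (f i v))
    (hs : ∀ i v, f i (f i v) = v) (s : Finset κ) :
    Submodule.span K {w | ∀ i ∈ s, f i w = w ∨ f i w = -w} = ⊤ := by
  classical
  induction s using Finset.induction_on with
  | empty => simp
  | insert a s ha ih =>
    rw [eq_top_iff, ← ih, Submodule.span_le]
    intro w hw
    have h1 : w = (2 : K)⁻¹ • (w + f a w) + (2 : K)⁻¹ • (w - f a w) := by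
      rw [← smul_add, add_add_sub_cancel, ← two_smul K w, smul_smul, inv_mul_cancel₀ two, one_smul]
    have hmem : ∀ c : K, c = 1 ∨ c = -1 → (w + c • f a w) ∈
        Submodule.span K {w | ∀ i ∈ insert a s, f i w = w ∨ f i w = -w} := by
      intro c hc'
      apply Submodule.subset_span
      intro i hi
      rcases Finset.mem_insert.1 hi with rfl | hi
      · rw [map_add, map_smul, hs]
        rcases hc' with rfl | rfl
        · left; rw [one_smul, one_smul, add_comm]
        · right; rw [neg_one_smul, neg_one_smul]; abel
      · rw [map_add, map_smul, hc i a]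
        rcases hw i hi with h | h
        · left; rw [h]
        · right; rw [h, map_neg, smul_neg]; abel
    change w ∈ Submodule.span K {w | ∀ i ∈ insert a s, f i w = w ∨ f i w = -w}
    rw [h1]
    refine add_mem (Submodule.smul_mem _ _ ?_) (Submodule.smul_mem _ _ ?_)
    · have := hmem 1 (Or.inl rfl)
      rwa [one_smul] at this
    · have := hmem (-1) (Or.inr rfl)
      rwa [neg_one_smul, ← sub_eq_add_neg] at this

/-- Commuting involutory operators have a common eigenbasis. -/
theorem exists_basis [FiniteDimensional K V] (two : (2 : K) ≠ 0) {κ : Type*} [Finite κ] (f : κ → V →ₗ[K] V)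
    (hc : ∀ i j v, f i (f j v) = f j (f i v)) (hs : ∀ i v, f i (f i v) = v) {n : ℕ} (hn : finrank K V = n) :
    ∃ b : Basis (Fin n) K V, ∀ i j, f i (b j) = b j ∨ f i (b j) = -b j := by
  classical
  have := Fintype.ofFinite κ
  have h := span_eq_top two f hc hs Finset.univ
  obtain ⟨t, ht1, ht2, ht3⟩ := exists_linearIndependent K {w | ∀ i ∈ (Finset.univ : Finset κ), f i w = w ∨ f i w = -w}
  let b0 : Basis t K V := Basis.mk ht3 (by rw [Subtype.range_coe, ht2, h])
  have hfin : Finite t := Module.Finite.finite_basis b0
  have := Fintype.ofFinite t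
  have hcard : Fintype.card t = n := by rw [← hn, finrank_eq_card_basis b0]
  refine ⟨b0.reindex (Fintype.equivFinOfCardEq hcard), fun i j => ?_⟩
  have h1 := ht1 ((Fintype.equivFinOfCardEq hcard).symm j).2 i (Finset.mem_univ _)
  have h2 : (b0.reindex (Fintype.equivFinOfCardEq hcard)) j = ((Fintype.equivFinOfCardEq hcard).symm j : V) := by
    rw [Basis.reindex_apply, Basis.mk_apply]
  rw [h2]
  exact h1

/-- The order of a group acting faithfully by diagonal operators with entries `± 1`. -/
theorem card_le {E : Type*} [Group E] [Finite E] (ρ : E →* (V ≃ₗ[K] V)) (hρ : Function.Injective ρ)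
    {n : ℕ} (b : Basis (Fin n) K V) (c : Fin n → E → K) (hc : ∀ e j, ρ e (b j) = c j e • b j)
    (hc1 : ∀ e j, c j e = 1 ∨ c j e = -1) [DecidableEq (E → K)] :
    Nat.card E ≤ 2 ^ (Finset.image c Finset.univ).card := by
  classical
  let g : E → (↥(Finset.image c Finset.univ) → Bool) := fun e χ => decide (χ.1 e = 1)
  have hg : Function.Injective g := by
    intro e e' h
    apply hρ
    have h1 : ∀ j, c j e = c j e' := by
      intro j
      have h2 := congrFun h ⟨c j, Finset.mem_image_of_mem _ (Finset.mem_univ j)⟩
      have h3 : (c j e = 1) ↔ (c j e' = 1) := by simpa [g] using h2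
      rcases hc1 e j with h4 | h4
      · rw [h4, (h3.1 h4)]
      · rcases hc1 e' j with h5 | h5
        · rw [h5, (h3.2 h5)]
        · rw [h4, h5]
    have h2 : (ρ e : V →ₗ[K] V) = (ρ e' : V →ₗ[K] V) := by
      apply b.ext
      intro j
      have h3 := hc e j
      have h4 := hc e' j
      rw [← h1 j] at h4
      exact h3.trans h4.symm
    ext v
    exact LinearMap.congr_fun h2 v
  have h1 := Nat.card_le_card_of_injective g hg
  rwa [Nat.card_fun, Nat.card_eq_fintype_card (α := Bool), Fintype.card_bool,
    Nat.card_eq_fintype_card (α := ↥(Finset.image c Finset.univ)), Fintype.card_coe] at h1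

/-- all fibres have at least two elements -/
theorem two_mul_card_image_le {ι X : Type*} [Fintype ι] [DecidableEq X] (c : ι → X)
    (h : ∀ i, ∃ j, j ≠ i ∧ c j = c i) : 2 * (Finset.image c Finset.univ).card ≤ Fintype.card ι := by
  classical
  have h1 : ∑ x ∈ Finset.image c Finset.univ, 2 ≤
      ∑ x ∈ Finset.image c Finset.univ, (Finset.univ.filter fun i => c i = x).card := by
    apply Finset.sum_le_sum
    intro x hx
    obtain ⟨i, -, rfl⟩ := Finset.mem_image.1 hx
    obtain ⟨j, hj, hj'⟩ := h i
    rw [← Nat.lt_iff_add_one_le, Finset.one_lt_card]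
    exact ⟨i, by simp, j, by simp [hj'], hj.symm⟩
  rw [Finset.sum_const, smul_eq_mul, mul_comm, ← Finset.card_eq_sum_card_image c Finset.univ] at h1
  exact h1

/-- all fibres but one have at least two elements -/
theorem two_mul_card_image_le_succ {ι X : Type*} [Fintype ι] [DecidableEq X] (c : ι → X)
    (h : ∀ i i', (∀ j, c j = c i → j = i) → (∀ j, c j = c i' → j = i') → i = i') :
    2 * (Finset.image c Finset.univ).card ≤ Fintype.card ι + 1 := by
  classical
  by_cases h0 : ∀ i, ∃ j, j ≠ i ∧ c j = c i
  · exact (two_mul_card_image_le c h0).trans (Nat.le_succ _)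
  push Not at h0
  obtain ⟨i0, hi0⟩ := h0
  have hi0' : ∀ j, c j = c i0 → j = i0 := fun j hj => by
    by_contra hne
    exact hi0 j hne hj
  have h1 : ∑ x ∈ (Finset.image c Finset.univ).erase (c i0), 2 ≤
      ∑ x ∈ (Finset.image c Finset.univ).erase (c i0), (Finset.univ.filter fun i => c i = x).card := by
    apply Finset.sum_le_sum
    intro x hx
    obtain ⟨hx1, hx2⟩ := Finset.mem_erase.1 hx
    obtain ⟨i, -, rfl⟩ := Finset.mem_image.1 hx2
    rw [← Nat.lt_iff_add_one_le, Finset.one_lt_card]
    by_contra hcon
    push Not at hcon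
    apply hx1
    have h3 : ∀ j, c j = c i → j = i := fun j hj => (hcon i (by simp) j (by simp [hj])).symm
    rw [h i i0 h3 hi0']
  have hmem : c i0 ∈ Finset.image c Finset.univ := Finset.mem_image_of_mem _ (Finset.mem_univ _)
  have h2 := Finset.add_sum_erase (Finset.image c Finset.univ) (fun x => (Finset.univ.filter fun i => c i = x).card) hmem
  rw [← Finset.card_eq_sum_card_image c Finset.univ, Finset.card_univ] at h2
  have h3 : 1 ≤ (Finset.univ.filter fun i => c i = c i0).card := Finset.card_pos.2 ⟨i0, by simp⟩
  rw [Finset.sum_const, smul_eq_mul, Finset.card_erase_of_mem hmem] at h1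
  have h4 : 1 ≤ (Finset.image c Finset.univ).card := Finset.card_pos.2 ⟨_, hmem⟩
  omega

end Cfsg.Agent.H100.Diag
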